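import Mathlib
import Cfsg.Agent.FooteOrth.Spin
set_option linter.all false

/-!
# The spinor sign on arbitrary quadratic spaces over finite fields of odd characteristic (helper160)

* `spin Q : O Q →* ℤˣ` the sign of the permutation of `{x | Q x = 1}`;
* `spin_refl`, `spin_conj` (transport), `hom_ext` (homomorphisms `O Q →* ℤˣ` agree if they agree on reflections);
* `spin_prod` : multiplicativity for orthogonal sums.
* `El Q s g` : `g` is an isometry of determinant one and spinor sign `s`.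
-/

set_option autoImplicit false

namespace Cfsg.Agent.H160.QSpin

open QuadraticMap
open Cfsg.Agent.LieClassical.OrthCore

variable {F V W : Type*} [Field F] [AddCommGroup V] [Module F V] [AddCommGroup W] [Module F W]

/-- the permutation of `{x | Q x = 1}` -/
def qperm (Q : QuadraticForm F V) : O Q →* Equiv.Perm {x : V // Q x = 1} where
  toFun g :=
    { toFun := fun x => ⟨(g : V ≃ₗ[F] V) x, by rw [mem_O.1 g.2]; exact x.2⟩
      invFun := fun x => ⟨((g⁻¹ : O Q) : V ≃ₗ[F] V) x, by rw [mem_O.1 (g⁻¹).2]; exact x.2⟩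
      left_inv := fun x => Subtype.ext ((g : V ≃ₗ[F] V).symm_apply_apply x)
      right_inv := fun x => Subtype.ext ((g : V ≃ₗ[F] V).apply_symm_apply x) }
  map_one' := by ext x; rfl
  map_mul' g h := by ext x; rfl

theorem qperm_apply (Q : QuadraticForm F V) (g : O Q) (x : {x : V // Q x = 1}) :
    ((qperm Q g x : {x : V // Q x = 1}) : V) = (g : V ≃ₗ[F] V) x := rfl

open Classical in
/-- the spinor sign -/
noncomputable def spin [Finite V] (Q : QuadraticForm F V) : O Q →* ℤˣ :=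
  letI := Fintype.ofFinite {x : V // Q x = 1}
  (Equiv.Perm.sign (α := {x : V // Q x = 1})).comp (qperm Q)

theorem spin_apply [Finite V] (Q : QuadraticForm F V) [Fintype {x : V // Q x = 1}]
    [DecidableEq {x : V // Q x = 1}] (g : O Q) : spin Q g = Equiv.Perm.sign (qperm Q g) := by
  unfold spin
  simp only [MonoidHom.comp_apply]
  congr!

/-- an isometry -/
def IsIso (Q : QuadraticForm F V) (Q' : QuadraticForm F W) (e : V ≃ₗ[F] W) : Prop := ∀ x, Q' (e x) = Q x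

/-- transport of a linear automorphism -/
def cj (e : V ≃ₗ[F] W) (g : V ≃ₗ[F] V) : W ≃ₗ[F] W := (e.symm.trans g).trans e

theorem cj_apply (e : V ≃ₗ[F] W) (g : V ≃ₗ[F] V) (w : W) : cj e g w = e (g (e.symm w)) := rfl

theorem cj_apply' (e : V ≃ₗ[F] W) (g : V ≃ₗ[F] V) (v : V) : cj e g (e v) = e (g v) := by
  rw [cj_apply, LinearEquiv.symm_apply_apply]

theorem cj_one (e : V ≃ₗ[F] W) : cj e (1 : V ≃ₗ[F] V) = 1 := by
  ext w
  exact e.apply_symm_apply w

theorem cj_mul (e : V ≃ₗ[F] W) (g h : V ≃ₗ[F] V) : cj e (g * h) = cj e g * cj e h := by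
  ext w
  show e (g (h (e.symm w))) = e (g (e.symm (e (h (e.symm w)))))
  rw [LinearEquiv.symm_apply_apply]

/-- `cj` as an isomorphism -/
def cjEquiv (e : V ≃ₗ[F] W) : (V ≃ₗ[F] V) ≃* (W ≃ₗ[F] W) where
  toFun := cj e
  invFun := cj e.symm
  left_inv g := by ext v; simp [cj]
  right_inv g := by ext v; simp [cj]
  map_mul' := cj_mul e

theorem cjEquiv_apply (e : V ≃ₗ[F] W) (g : V ≃ₗ[F] V) : cjEquiv e g = cj e g := rfl

theorem orderOf_cj (e : V ≃ₗ[F] W) (g : V ≃ₗ[F] V) : orderOf (cj e g) = orderOf g :=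
  orderOf_injective (cjEquiv e).toMonoidHom (cjEquiv e).injective g

theorem cj_pow (e : V ≃ₗ[F] W) (g : V ≃ₗ[F] V) (n : ℕ) : cj e (g ^ n) = cj e g ^ n :=
  map_pow (cjEquiv e) g n

theorem det_cj (e : V ≃ₗ[F] W) (g : V ≃ₗ[F] V) : LinearEquiv.det (cj e g) = LinearEquiv.det g := by
  apply Units.ext
  rw [LinearEquiv.coe_det, LinearEquiv.coe_det]
  exact LinearMap.det_conj (g : V →ₗ[F] V) e

theorem IsIso.symm {Q : QuadraticForm F V} {Q' : QuadraticForm F W} {e : V ≃ₗ[F] W} (he : IsIso Q Q' e) :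
    IsIso Q' Q e.symm := by
  intro w
  rw [← he, LinearEquiv.apply_symm_apply]

theorem IsIso.polar {Q : QuadraticForm F V} {Q' : QuadraticForm F W} {e : V ≃ₗ[F] W} (he : IsIso Q Q' e)
    (x y : V) : polar Q' (e x) (e y) = polar Q x y := by
  simp only [QuadraticMap.polar, ← map_add, he _]

theorem IsIso.nondeg {Q : QuadraticForm F V} {Q' : QuadraticForm F W} {e : V ≃ₗ[F] W} (he : IsIso Q Q' e)
    (hQ : Nondeg Q) : Nondeg Q' := by
  intro w hw
  have h := hQ (e.symm w) (fun y => by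
    have := hw (e y)
    rw [← he.polar, LinearEquiv.apply_symm_apply, this])
  rwa [LinearEquiv.map_eq_zero_iff] at h

theorem cj_mem_O {Q : QuadraticForm F V} {Q' : QuadraticForm F W} {e : V ≃ₗ[F] W} (he : IsIso Q Q' e)
    {g : V ≃ₗ[F] V} (hg : g ∈ O Q) : cj e g ∈ O Q' := by
  intro w
  rw [cj_apply, he, mem_O.1 hg, he.symm]

theorem spin_cj [Finite V] [Finite W] {Q : QuadraticForm F V} {Q' : QuadraticForm F W} {e : V ≃ₗ[F] W}
    (he : IsIso Q Q' e) {g : V ≃ₗ[F] V} (hg : g ∈ O Q) :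
    spin Q' ⟨cj e g, cj_mem_O he hg⟩ = spin Q ⟨g, hg⟩ := by
  classical
  let _ := Fintype.ofFinite {x : V // Q x = 1}
  let _ := Fintype.ofFinite {x : W // Q' x = 1}
  rw [spin_apply, spin_apply]
  let E : {x : V // Q x = 1} ≃ {x : W // Q' x = 1} :=
    { toFun := fun x => ⟨e x, by rw [he]; exact x.2⟩
      invFun := fun x => ⟨e.symm x, by rw [he.symm]; exact x.2⟩
      left_inv := fun x => Subtype.ext (e.symm_apply_apply _)
      right_inv := fun x => Subtype.ext (e.apply_symm_apply _) }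
  have h1 : qperm Q' ⟨cj e g, cj_mem_O he hg⟩ = (E.symm.trans (qperm Q ⟨g, hg⟩)).trans E := by
    ext x
    rfl
  rw [h1]
  exact Equiv.Perm.sign_symm_trans_trans _ _

theorem cj_refl {Q : QuadraticForm F V} {Q' : QuadraticForm F W} {e : V ≃ₗ[F] W}
    (he : IsIso Q Q' e) {v : V} (hv : Q v ≠ 0) (hv' : Q' (e v) ≠ 0) :
    cj e (refl Q v hv) = refl Q' (e v) hv' := by
  ext w
  rw [cj_apply, refl_apply, refl_apply, map_sub, map_smul, LinearEquiv.apply_symm_apply, he]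
  congr 3
  rw [← he.polar, LinearEquiv.apply_symm_apply]

section Refl

theorem spin_eq_sg [Finite F] {ι : Type} [Fintype ι] [DecidableEq ι] (Q : QuadraticForm F (ι → F)) (g : O Q) :
    spin Q g = Cfsg.Agent.FooteOrth.sg Q g := by
  classical
  let _ := Fintype.ofFinite {x : ι → F // Q x = 1}
  rw [spin_apply]
  show _ = Cfsg.Agent.ClassicalGeometry.SpinorSign.spinorSign (⇑Q) 1
    ((Cfsg.Agent.LieClassical.OrthFinite.isometryEquiv Q).symm g)
  rw [Cfsg.Agent.ClassicalGeometry.SpinorSign.spinorSign_apply]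
  congr 1
  ext1 x
  apply Subtype.ext
  rw [Cfsg.Agent.ClassicalGeometry.SpinorSign.coe_quadricPerm, qperm_apply,
    ← Cfsg.Agent.LieClassical.OrthFinite.isometryEquiv_apply, MulEquiv.apply_symm_apply]

variable [Module.Finite F V]

theorem exists_iso_fin (Q : QuadraticForm F V) :
    ∃ (Q' : QuadraticForm F (Fin (Module.finrank F V) → F)) (e : V ≃ₗ[F] (Fin (Module.finrank F V) → F)),
      IsIso Q Q' e := by
  refine ⟨Q.comp (Module.finBasis F V).equivFun.symm.toLinearMap, (Module.finBasis F V).equivFun, fun x => ?_⟩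
  show Q ((Module.finBasis F V).equivFun.symm ((Module.finBasis F V).equivFun x)) = Q x
  rw [LinearEquiv.symm_apply_apply]

theorem spin_refl [Finite F] [Finite V] (h2 : (2 : F) ≠ 0) {Q : QuadraticForm F V} {v : V} (hv : Q v ≠ 0)
    [Decidable (IsSquare (Q v))] : spin Q ⟨refl Q v hv, refl_mem_O hv⟩ = if IsSquare (Q v) then -1 else 1 := by
  obtain ⟨Q', e, he⟩ := exists_iso_fin Q
  have hv' : Q' (e v) ≠ 0 := by rw [he]; exact hv
  rw [← spin_cj he (refl_mem_O hv)]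
  have h1 : (⟨cj e (refl Q v hv), cj_mem_O he (refl_mem_O hv)⟩ : O Q') = ⟨refl Q' (e v) hv', refl_mem_O hv'⟩ :=
    Subtype.ext (cj_refl he hv hv')
  have h3 : Decidable (IsSquare (Q' (e v))) := by rw [he]; infer_instance
  rw [h1, spin_eq_sg, Cfsg.Agent.FooteOrth.sg_refl h2 hv']
  congr 1
  rw [he]

theorem det_refl {Q : QuadraticForm F V} {v : V} (hv : Q v ≠ 0) :
    LinearEquiv.det (refl Q v hv) = -1 := by
  obtain ⟨Q', e, he⟩ := exists_iso_fin Q
  have hv' : Q' (e v) ≠ 0 := by rw [he]; exact hv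
  rw [← det_cj e, cj_refl he hv hv', Cfsg.Agent.FooteOrth.det_refl]

end Refl

/-- in characteristic not two a Siegel transformation is a square of an isometry -/
theorem siegel_eq_sq (h2 : (2 : F) ≠ 0) {Q : QuadraticForm F V} {u w : V} (hu : Q u = 0) (hw : polar Q u w = 0) :
    ∃ h ∈ O Q, siegel Q u w hu hw = h * h := by
  have hw2 : polar Q u ((2 : F)⁻¹ • w) = 0 := by rw [polar_smul_right, hw, smul_zero]
  have h3 : (2 : F)⁻¹ • w + (2 : F)⁻¹ • w = w := by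
    rw [← add_smul, ← two_mul, mul_inv_cancel₀ h2, one_smul]
  refine ⟨siegel Q u ((2 : F)⁻¹ • w) hu hw2, siegel_mem_O hu hw2, ?_⟩
  have hw3 : polar Q u ((2 : F)⁻¹ • w + (2 : F)⁻¹ • w) = 0 := by rw [h3, hw]
  rw [siegel_mul hu hw2 hw2 hw3]
  congr 1
  exact h3.symm

/-- two homomorphisms to a group of exponent two agree if they agree on reflections -/
theorem hom_ext [FiniteDimensional F V] (h2 : (2 : F) ≠ 0) {Q : QuadraticForm F V} (hQ : Nondeg Q)
    {A : Type*} [CommGroup A] (hA : ∀ a : A, a * a = 1) {φ ψ : O Q →* A}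
    (h : ∀ (v : V) (hv : Q v ≠ 0), φ ⟨refl Q v hv, refl_mem_O hv⟩ = ψ ⟨refl Q v hv, refl_mem_O hv⟩) : φ = ψ := by
  ext g
  obtain ⟨g, hg⟩ := g
  have hcl : O Q = Subgroup.closure (reflSet Q ∪ siegelSet Q) := O_eq_closure hQ
  have key : ∀ g ∈ Subgroup.closure (reflSet Q ∪ siegelSet Q), ∀ hg : g ∈ O Q, φ ⟨g, hg⟩ = ψ ⟨g, hg⟩ := by
    intro g hgc
    induction hgc using Subgroup.closure_induction with
    | mem x hx =>
      intro hxO
      rcases hx with ⟨v, hv, rfl⟩ | ⟨u, w, hu, hw, rfl⟩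
      · exact h v hv
      · obtain ⟨k, hk, hk2⟩ := siegel_eq_sq h2 hu hw
        have h3 : (⟨siegel Q u w hu hw, hxO⟩ : O Q) = ⟨k, hk⟩ * ⟨k, hk⟩ := Subtype.ext hk2
        rw [h3, map_mul, map_mul, hA, hA]
    | one =>
      intro h1
      have : (⟨1, h1⟩ : O Q) = 1 := rfl
      rw [this, map_one, map_one]
    | mul x y hx hy ihx ihy =>
      intro hxy
      have hx' : x ∈ O Q := by rw [hcl]; exact hx
      have hy' : y ∈ O Q := by rw [hcl]; exact hy
      have : (⟨x * y, hxy⟩ : O Q) = ⟨x, hx'⟩ * ⟨y, hy'⟩ := rfl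
      rw [this, map_mul, map_mul, ihx hx', ihy hy']
    | inv x hx ihx =>
      intro hxi
      have hx' : x ∈ O Q := by rw [hcl]; exact hx
      have : (⟨x⁻¹, hxi⟩ : O Q) = ⟨x, hx'⟩⁻¹ := rfl
      rw [this, map_inv, map_inv, ihx hx']
  exact key g (by rw [← hcl]; exact hg) hg

/-! ### Orthogonal sums -/

section Prod

variable {Q₁ : QuadraticForm F V} {Q₂ : QuadraticForm F W}

/-- the direct sum of two automorphisms -/
def pr (g : V ≃ₗ[F] V) (h : W ≃ₗ[F] W) : (V × W) ≃ₗ[F] (V × W) := g.prodCongr h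

theorem pr_apply (g : V ≃ₗ[F] V) (h : W ≃ₗ[F] W) (x : V × W) : pr g h x = (g x.1, h x.2) := rfl

theorem pr_mul (g g' : V ≃ₗ[F] V) (h h' : W ≃ₗ[F] W) : pr (g * g') (h * h') = pr g h * pr g' h' := rfl

theorem pr_one : pr (1 : V ≃ₗ[F] V) (1 : W ≃ₗ[F] W) = 1 := rfl

/-- `pr` as a homomorphism -/
def prHom : (V ≃ₗ[F] V) × (W ≃ₗ[F] W) →* ((V × W) ≃ₗ[F] (V × W)) where
  toFun p := pr p.1 p.2
  map_one' := rfl
  map_mul' _ _ := rfl

theorem pr_pow (g : V ≃ₗ[F] V) (h : W ≃ₗ[F] W) (n : ℕ) : pr g h ^ n = pr (g ^ n) (h ^ n) :=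
  (map_pow prHom (g, h) n).symm

theorem prHom_injective : Function.Injective (prHom (F := F) (V := V) (W := W)) := by
  intro p p' h
  have h1 : ∀ x : V × W, (p.1 x.1, p.2 x.2) = (p'.1 x.1, p'.2 x.2) := fun x =>
    congrArg (fun k : (V × W) ≃ₗ[F] (V × W) => k x) h
  apply Prod.ext
  · ext v; exact congrArg Prod.fst (h1 (v, 0))
  · ext w; exact congrArg Prod.snd (h1 (0, w))

theorem orderOf_pr (g : V ≃ₗ[F] V) (h : W ≃ₗ[F] W) : orderOf (pr g h) = (orderOf g).lcm (orderOf h) := by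
  have h1 := orderOf_injective prHom prHom_injective (g, h)
  rw [Prod.orderOf] at h1
  exact h1

theorem det_pr [FiniteDimensional F V] [FiniteDimensional F W] (g : V ≃ₗ[F] V) (h : W ≃ₗ[F] W) :
    LinearEquiv.det (pr g h) = LinearEquiv.det g * LinearEquiv.det h := by
  apply Units.ext
  rw [LinearEquiv.coe_det, Units.val_mul, LinearEquiv.coe_det, LinearEquiv.coe_det]
  exact LinearMap.det_prodMap (g : V →ₗ[F] V) (h : W →ₗ[F] W)

theorem Qpr_apply (x : V × W) : (Q₁.prod Q₂) x = Q₁ x.1 + Q₂ x.2 := rfl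

theorem pr_mem_O {g : V ≃ₗ[F] V} {h : W ≃ₗ[F] W} (hg : g ∈ O Q₁) (hh : h ∈ O Q₂) : pr g h ∈ O (Q₁.prod Q₂) := by
  intro x
  rw [Qpr_apply, Qpr_apply, pr_apply, mem_O.1 hg, mem_O.1 hh]

theorem pr_mem_O_iff {g : V ≃ₗ[F] V} {h : W ≃ₗ[F] W} : pr g h ∈ O (Q₁.prod Q₂) ↔ g ∈ O Q₁ ∧ h ∈ O Q₂ := by
  constructor
  · intro H
    constructor
    · intro v
      have := H (v, 0)
      rw [Qpr_apply, Qpr_apply, pr_apply] at this
      simpa using this
    · intro v
      have := H (0, v)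
      rw [Qpr_apply, Qpr_apply, pr_apply] at this
      simpa using this
  · exact fun ⟨h1, h2⟩ => pr_mem_O h1 h2

theorem polar_pr (x y : V × W) : polar (Q₁.prod Q₂) x y = polar Q₁ x.1 y.1 + polar Q₂ x.2 y.2 := by
  simp only [QuadraticMap.polar, Qpr_apply, Prod.fst_add, Prod.snd_add]
  ring

theorem nondeg_prod (h₁ : Nondeg Q₁) (h₂ : Nondeg Q₂) : Nondeg (Q₁.prod Q₂) := by
  intro x hx
  apply Prod.ext
  · apply h₁
    intro y
    have := hx (y, 0)
    rw [polar_pr] at this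
    simpa using this
  · apply h₂
    intro y
    have := hx (0, y)
    rw [polar_pr] at this
    simpa using this

theorem nondeg_of_prod (h : Nondeg (Q₁.prod Q₂)) : Nondeg Q₁ ∧ Nondeg Q₂ := by
  constructor
  · intro x hx
    have h1 := h (x, 0) (fun y => by rw [polar_pr, hx]; simp)
    exact congrArg Prod.fst h1
  · intro x hx
    have h1 := h (0, x) (fun y => by rw [polar_pr, hx]; simp)
    exact congrArg Prod.snd h1

theorem refl_left {v : V} (hv : Q₁ v ≠ 0) (hv' : (Q₁.prod Q₂) (v, 0) ≠ 0) :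
    pr (refl Q₁ v hv) (1 : W ≃ₗ[F] W) = refl (Q₁.prod Q₂) (v, 0) hv' := by
  ext1 x
  rw [refl_apply, pr_apply, refl_apply, polar_pr, Qpr_apply]
  apply Prod.ext
  · simp
  · simp

theorem refl_right {w : W} (hw : Q₂ w ≠ 0) (hw' : (Q₁.prod Q₂) (0, w) ≠ 0) :
    pr (1 : V ≃ₗ[F] V) (refl Q₂ w hw) = refl (Q₁.prod Q₂) (0, w) hw' := by
  ext1 x
  rw [refl_apply, pr_apply, refl_apply, polar_pr, Qpr_apply]
  apply Prod.ext
  · simp
  · simp

theorem units_sq (a : ℤˣ) : a * a = 1 := Int.units_mul_self a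

theorem spin_pr_left [Finite F] [Module.Finite F V] [Module.Finite F W] [Finite V] [Finite (V × W)]
    (h2 : (2 : F) ≠ 0) (h₁ : Nondeg Q₁) {g : V ≃ₗ[F] V} (hg : g ∈ O Q₁) :
    spin (Q₁.prod Q₂) ⟨pr g 1, pr_mem_O hg (O Q₂).one_mem⟩ = spin Q₁ ⟨g, hg⟩ := by
  classical
  let φ : O Q₁ →* O (Q₁.prod Q₂) :=
    { toFun := fun g => ⟨pr g 1, pr_mem_O g.2 (O Q₂).one_mem⟩
      map_one' := rfl
      map_mul' := fun _ _ => rfl }
  have h3 : (spin (Q₁.prod Q₂)).comp φ = spin Q₁ := by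
    apply hom_ext h2 h₁ units_sq
    intro v hv
    have hv' : (Q₁.prod Q₂) (v, 0) ≠ 0 := by rw [Qpr_apply]; simpa using hv
    have h4 : φ ⟨refl Q₁ v hv, refl_mem_O hv⟩ = ⟨refl (Q₁.prod Q₂) (v, 0) hv', refl_mem_O hv'⟩ :=
      Subtype.ext (refl_left hv hv')
    rw [MonoidHom.comp_apply, h4, spin_refl h2, spin_refl h2]
    congr 1
    rw [Qpr_apply]
    simp
  exact congrArg (fun ψ : O Q₁ →* ℤˣ => ψ ⟨g, hg⟩) h3

theorem spin_pr_right [Finite F] [Module.Finite F V] [Module.Finite F W] [Finite W] [Finite (V × W)]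
    (h2 : (2 : F) ≠ 0) (h₂ : Nondeg Q₂) {g : W ≃ₗ[F] W} (hg : g ∈ O Q₂) :
    spin (Q₁.prod Q₂) ⟨pr 1 g, pr_mem_O (O Q₁).one_mem hg⟩ = spin Q₂ ⟨g, hg⟩ := by
  classical
  let φ : O Q₂ →* O (Q₁.prod Q₂) :=
    { toFun := fun g => ⟨pr 1 g, pr_mem_O (O Q₁).one_mem g.2⟩
      map_one' := rfl
      map_mul' := fun _ _ => rfl }
  have h3 : (spin (Q₁.prod Q₂)).comp φ = spin Q₂ := by
    apply hom_ext h2 h₂ units_sq
    intro v hv
    have hv' : (Q₁.prod Q₂) (0, v) ≠ 0 := by rw [Qpr_apply]; simpa using hv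
    have h4 : φ ⟨refl Q₂ v hv, refl_mem_O hv⟩ = ⟨refl (Q₁.prod Q₂) (0, v) hv', refl_mem_O hv'⟩ :=
      Subtype.ext (refl_right hv hv')
    rw [MonoidHom.comp_apply, h4, spin_refl h2, spin_refl h2]
    congr 1
    rw [Qpr_apply]
    simp
  exact congrArg (fun ψ : O Q₂ →* ℤˣ => ψ ⟨g, hg⟩) h3

theorem spin_pr [Finite F] [Module.Finite F V] [Module.Finite F W] [Finite V] [Finite W] [Finite (V × W)]
    (h2 : (2 : F) ≠ 0) (h₁ : Nondeg Q₁) (h₂ : Nondeg Q₂) {g : V ≃ₗ[F] V} (hg : g ∈ O Q₁)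
    {h : W ≃ₗ[F] W} (hh : h ∈ O Q₂) :
    spin (Q₁.prod Q₂) ⟨pr g h, pr_mem_O hg hh⟩ = spin Q₁ ⟨g, hg⟩ * spin Q₂ ⟨h, hh⟩ := by
  have h3 : (⟨pr g h, pr_mem_O hg hh⟩ : O (Q₁.prod Q₂)) =
      ⟨pr g 1, pr_mem_O hg (O Q₂).one_mem⟩ * ⟨pr 1 h, pr_mem_O (O Q₁).one_mem hh⟩ := by
    apply Subtype.ext
    show pr g h = pr g 1 * pr 1 h
    rw [← pr_mul, mul_one, one_mul]
  rw [h3, map_mul, spin_pr_left h2 h₁ hg, spin_pr_right h2 h₂ hh]

end Prod

/-! ### Isometries of determinant one with given spinor sign -/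

section El

variable [Finite V] [Finite W]

/-- `g` is an isometry of determinant one and spinor sign `s` -/
def El (Q : QuadraticForm F V) (s : ℤˣ) (g : V ≃ₗ[F] V) : Prop :=
  ∃ hg : g ∈ O Q, LinearEquiv.det g = 1 ∧ spin Q ⟨g, hg⟩ = s

theorem El.one (Q : QuadraticForm F V) : El Q 1 (1 : V ≃ₗ[F] V) :=
  ⟨(O Q).one_mem, map_one _, map_one (spin Q)⟩

theorem El.mul {Q : QuadraticForm F V} {s t : ℤˣ} {g h : V ≃ₗ[F] V} (hg : El Q s g) (hh : El Q t h) :
    El Q (s * t) (g * h) := by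
  obtain ⟨h1, h2, h3⟩ := hg
  obtain ⟨h4, h5, h6⟩ := hh
  refine ⟨(O Q).mul_mem h1 h4, by rw [map_mul, h2, h5, mul_one], ?_⟩
  rw [← h3, ← h6, ← map_mul]
  rfl

theorem El.pow {Q : QuadraticForm F V} {s : ℤˣ} {g : V ≃ₗ[F] V} (hg : El Q s g) (n : ℕ) :
    El Q (s ^ n) (g ^ n) := by
  induction n with
  | zero => rw [pow_zero, pow_zero]; exact El.one Q
  | succ n ih => rw [pow_succ, pow_succ]; exact ih.mul hg

theorem El.cj {Q : QuadraticForm F V} {Q' : QuadraticForm F W} {e : V ≃ₗ[F] W} (he : IsIso Q Q' e) {s : ℤˣ}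
    {g : V ≃ₗ[F] V} (hg : El Q s g) : El Q' s (QSpin.cj e g) := by
  obtain ⟨h1, h2, h3⟩ := hg
  exact ⟨cj_mem_O he h1, by rw [det_cj, h2], by rw [spin_cj he h1, h3]⟩

theorem El.pr [Finite F] [Module.Finite F V] [Module.Finite F W] [Finite (V × W)] (h2 : (2 : F) ≠ 0)
    {Q₁ : QuadraticForm F V} {Q₂ : QuadraticForm F W} (h₁ : Nondeg Q₁) (h₂ : Nondeg Q₂) {s t : ℤˣ}
    {g : V ≃ₗ[F] V} {h : W ≃ₗ[F] W} (hg : El Q₁ s g) (hh : El Q₂ t h) : El (Q₁.prod Q₂) (s * t) (QSpin.pr g h) := by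
  obtain ⟨h1, h3, h4⟩ := hg
  obtain ⟨h5, h6, h7⟩ := hh
  exact ⟨pr_mem_O h1 h5, by rw [det_pr, h3, h6, mul_one], by rw [spin_pr h2 h₁ h₂ h1 h5, h4, h7]⟩

theorem eq_one_of_odd {A : Type*} [Group A] {a : A} {n : ℕ} (ho : Odd n) (h1 : a ^ 2 = 1) (h2 : a ^ n = 1) :
    a = 1 := by
  obtain ⟨k, hk⟩ := ho
  rw [hk, pow_succ, pow_mul, h1, one_pow, one_mul] at h2
  exact h2

omit [Finite V] in
theorem det_sq [FiniteDimensional F V] {Q : QuadraticForm F V} {g : V ≃ₗ[F] V} (hQ : Nondeg Q)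
    (hg : g ∈ O Q) : LinearEquiv.det g ^ 2 = 1 := by
  classical
  let b := Module.finBasis F V
  have hnd : LinearMap.BilinForm.Nondegenerate (polarBilin Q) :=
    ⟨fun x hx => hQ x hx, fun x hx => hQ x fun y => by rw [polar_comm]; exact hx y⟩
  have hd := (LinearMap.BilinForm.nondegenerate_iff_det_ne_zero b).1 hnd
  have h1 := LinearMap.BilinForm.toMatrix_comp b b (polarBilin Q) (g : V →ₗ[F] V) (g : V →ₗ[F] V)
  have h2 : LinearMap.BilinForm.comp (polarBilin Q) (g : V →ₗ[F] V) (g : V →ₗ[F] V) = polarBilin Q := by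
    ext x y
    exact polar_map hg x y
  rw [h2] at h1
  have h3 := congrArg Matrix.det h1
  rw [Matrix.det_mul, Matrix.det_mul, Matrix.det_transpose] at h3
  apply Units.ext
  rw [Units.val_pow_eq_pow_val, LinearEquiv.coe_det, Units.val_one, ← LinearMap.det_toMatrix b]
  apply mul_left_cancel₀ hd
  linear_combination -h3

/-- isometries of odd order have determinant one and spinor sign one -/
theorem El.of_odd [FiniteDimensional F V] {Q : QuadraticForm F V} {g : V ≃ₗ[F] V} (hQ : Nondeg Q)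
    (hg : g ∈ O Q) (ho : Odd (orderOf g)) : El Q 1 g := by
  refine ⟨hg, ?_, ?_⟩
  · apply eq_one_of_odd ho (det_sq hQ hg)
    rw [← map_pow, pow_orderOf_eq_one, map_one]
  · apply eq_one_of_odd ho (by rw [pow_two]; exact units_sq _)
    rw [← map_pow]
    have : (⟨g, hg⟩ : O Q) ^ orderOf g = 1 := by
      apply Subtype.ext
      show g ^ orderOf g = 1
      exact pow_orderOf_eq_one g
    rw [this, map_one]

end El

end Cfsg.Agent.H160.QSpin
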