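import Mathlib
import Cfsg.Agent.H160.QEnum
import Cfsg.Agent.H160.QDisc
set_option linter.all false

/-!
# The roots of the characteristic polynomial of an isometry over a finite field of odd order (helper160)
-/

set_option autoImplicit false

namespace Cfsg.Agent.H160.QChar

open QuadraticMap Module Polynomial
open Cfsg.Agent.LieClassical.OrthCore Cfsg.Agent.H160.QSpin Cfsg.Agent.H160.QDisc Cfsg.Agent.H160.QRoots

section Matrix

open Matrix

variable {K ι : Type*} [Field K] [Fintype ι] [DecidableEq ι]

theorem exists_reverse (R : Multiset K) : (∀ x ∈ R, x ≠ 0) →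
    ∃ a : K, a ≠ 0 ∧ ((R.map (fun x => X - C x)).prod).reverse =
      C a * ((R.map (fun x => x⁻¹)).map (fun x => X - C x)).prod := by
  induction R using Multiset.induction_on with
  | empty =>
    intro _
    refine ⟨1, one_ne_zero, ?_⟩
    simp only [Multiset.map_zero, Multiset.prod_zero, map_one, mul_one]
    have := reverse_C (1 : K)
    rwa [map_one] at this
  | cons x R ih =>
    intro h
    obtain ⟨a, ha, hR⟩ := ih (fun y hy => h y (Multiset.mem_cons_of_mem hy))
    have hx : x ≠ 0 := h x (Multiset.mem_cons_self x R)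
    refine ⟨a * (-x), mul_ne_zero ha (neg_ne_zero.2 hx), ?_⟩
    simp only [Multiset.map_cons, Multiset.prod_cons]
    rw [reverse_mul_of_domain, hR]
    have h1 : (X - C x : K[X]).reverse = 1 - C x * X := by
      rw [reverse, natDegree_X_sub_C, reflect_sub, reflect_C, pow_one]
      congr 1
      have := reflect_monomial (R := K) 1 1
      rw [pow_one] at this
      rw [this]
      simp
    have h2 : (1 - C x * X : K[X]) = C (-x) * (X - C x⁻¹) := by
      rw [mul_sub, ← C_mul, neg_mul, mul_inv_cancel₀ hx, C_neg, C_neg, C_1]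
      ring
    rw [h1, h2, C_mul]
    ring

/-- a matrix preserving a nondegenerate form: the multiset of eigenvalues is closed under inversion -/
theorem roots_inv {M G : Matrix ι ι K} (hG : G.det ≠ 0) (hM : Mᵀ * G * M = G) (hs : M.charpoly.Splits) :
    M.charpoly.roots = M.charpoly.roots.map (fun x => x⁻¹) := by
  have hdM : M.det ≠ 0 := by
    intro h0
    apply hG
    rw [← hM, Matrix.det_mul, h0, mul_zero]
  have hMu : IsUnit M := (Matrix.isUnit_iff_isUnit_det M).2 (isUnit_iff_ne_zero.2 hdM)
  have hGu : IsUnit G := (Matrix.isUnit_iff_isUnit_det G).2 (isUnit_iff_ne_zero.2 hG)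
  have h1 : M⁻¹ = G⁻¹ * Mᵀ * G := by
    have h2 : Mᵀ * G * M * M⁻¹ = G * M⁻¹ := by rw [hM]
    rw [Matrix.mul_assoc, Matrix.mul_nonsing_inv _ (isUnit_iff_ne_zero.2 hdM), Matrix.mul_one] at h2
    rw [Matrix.mul_assoc, h2, ← Matrix.mul_assoc, Matrix.nonsing_inv_mul _ (isUnit_iff_ne_zero.2 hG), Matrix.one_mul]
  have h2 : M⁻¹.charpoly = M.charpoly := by
    rw [h1]
    obtain ⟨u, hu⟩ := hGu
    have h3 := Matrix.charpoly_units_conj' u Mᵀ
    rw [Matrix.charpoly_transpose] at h3
    rw [← h3, ← hu, ← Matrix.coe_units_inv]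
  have h3 := Matrix.charpoly_inv M hMu
  rw [h2, ← Matrix.reverse_charpoly] at h3
  have hmonic := Matrix.charpoly_monic M
  have h4 : M.charpoly = (M.charpoly.roots.map (fun x => X - C x)).prod := by
    have := hs.eq_prod_roots
    rw [hmonic.leadingCoeff, C_1, one_mul] at this
    exact this
  have hne : ∀ x ∈ M.charpoly.roots, x ≠ 0 := by
    rintro x hx rfl
    have h5 := (mem_roots hmonic.ne_zero).1 hx
    rw [IsRoot.def, Matrix.eval_charpoly] at h5
    have h6 : (Matrix.scalar ι (0 : K) - M) = -M := by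
      rw [map_zero, zero_sub]
    rw [h6, Matrix.det_neg] at h5
    exact (mul_ne_zero (pow_ne_zero _ (neg_ne_zero.2 one_ne_zero)) hdM) h5
  obtain ⟨a, ha, hR⟩ := exists_reverse M.charpoly.roots hne
  rw [← h4] at hR
  rw [hR] at h3
  have hdu : Ring.inverse M.det = M.det⁻¹ := Ring.inverse_eq_inv _
  have hb : ∃ b : K, b ≠ 0 ∧ M.charpoly = C b * ((M.charpoly.roots.map (fun x => x⁻¹)).map (fun x => X - C x)).prod := by
    refine ⟨(-1) ^ Fintype.card ι * M.det⁻¹ * a, ?_, ?_⟩
    · exact mul_ne_zero (mul_ne_zero (pow_ne_zero _ (neg_ne_zero.2 one_ne_zero)) (inv_ne_zero hdM)) ha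
    · rw [hdu] at h3
      conv_lhs => rw [h3]
      rw [C_mul, C_mul, C_pow, C_neg, C_1]
      ring
  obtain ⟨b, hb0, hb⟩ := hb
  conv_lhs => rw [hb]
  rw [roots_C_mul _ hb0, roots_multiset_prod_X_sub_C]

end Matrix

variable {F V : Type*} [Field F] [Fintype F] [AddCommGroup V] [Module F V] [FiniteDimensional F V]

/-- the eigenvalues in the algebraic closure -/
noncomputable def rts (g : V →ₗ[F] V) : Multiset (AlgebraicClosure F) :=
  (g.charpoly.map (algebraMap F (AlgebraicClosure F))).roots

omit [Fintype F] in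
theorem splits (f : F[X]) : (f.map (algebraMap F (AlgebraicClosure F))).Splits := IsAlgClosed.splits _

omit [Fintype F] in
theorem card_rts (g : V →ₗ[F] V) : (rts g).card = finrank F V := by
  rw [rts, ← (splits _).natDegree_eq_card_roots, natDegree_map, LinearMap.charpoly_natDegree]

omit [Fintype F] in
theorem map_ne (g : V →ₗ[F] V) : g.charpoly.map (algebraMap F (AlgebraicClosure F)) ≠ 0 :=
  ((LinearMap.charpoly_monic g).map _).ne_zero

omit [Fintype F] in
theorem eq_prod (g : V →ₗ[F] V) : g.charpoly.map (algebraMap F (AlgebraicClosure F)) =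
    ((rts g).map (fun x => X - C x)).prod := by
  have := (splits g.charpoly).eq_prod_roots
  rw [((LinearMap.charpoly_monic g).map _).leadingCoeff, C_1, one_mul] at this
  exact this

/-- the Frobenius homomorphism of the closure -/
theorem exists_frob (F : Type*) [Field F] [Fintype F] :
    ∃ φ : AlgebraicClosure F →+* AlgebraicClosure F, (∀ x, φ x = x ^ Fintype.card F) ∧
      φ.comp (algebraMap F (AlgebraicClosure F)) = algebraMap F (AlgebraicClosure F) := by
  obtain ⟨p, hp⟩ := CharP.exists F
  obtain ⟨n, hpp, hn⟩ := FiniteField.card F p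
  have : Fact p.Prime := ⟨hpp⟩
  have : CharP (AlgebraicClosure F) p := charP_of_injective_algebraMap (algebraMap F (AlgebraicClosure F)).injective p
  have : ExpChar (AlgebraicClosure F) p := ExpChar.prime hpp
  refine ⟨iterateFrobenius (AlgebraicClosure F) p n, fun x => ?_, ?_⟩
  · rw [hn]; rfl
  · ext a
    show (algebraMap F (AlgebraicClosure F) a) ^ p ^ (n : ℕ) = _
    rw [← map_pow, ← hn, FiniteField.pow_card]

theorem frob_inj (F : Type*) [Field F] [Fintype F] :
    Function.Injective (fun x : AlgebraicClosure F => x ^ Fintype.card F) := by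
  obtain ⟨φ, h1, -⟩ := exists_frob F
  intro x y h
  apply φ.injective
  rw [h1, h1]
  exact h

theorem frob_sub (F : Type*) [Field F] [Fintype F] (x y : AlgebraicClosure F) :
    (x - y) ^ Fintype.card F = x ^ Fintype.card F - y ^ Fintype.card F := by
  obtain ⟨φ, h1, -⟩ := exists_frob F
  rw [← h1, ← h1, ← h1, map_sub]

open Classical in
theorem count_frob (g : V →ₗ[F] V) (x : AlgebraicClosure F) :
    (rts g).count (x ^ Fintype.card F) = (rts g).count x := by
  obtain ⟨φ, h1, h2⟩ := exists_frob F
  have h3 : rts g = (rts g).map φ := by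
    have h4 := (splits g.charpoly).roots_map φ
    rw [Polynomial.map_map, h2] at h4
    exact h4
  conv_lhs => rw [h3, ← h1]
  exact Multiset.count_map_eq_count' _ _ φ.injective _

omit [Fintype F] in
theorem mem_rts_iff (g : V →ₗ[F] V) (a : F) :
    algebraMap F (AlgebraicClosure F) a ∈ rts g ↔ Module.End.HasEigenvalue g a := by
  rw [rts, mem_roots (map_ne g), IsRoot.def, Polynomial.eval_map_algebraMap, Polynomial.aeval_algebraMap_apply,
    Module.End.hasEigenvalue_iff_isRoot_charpoly, IsRoot.def, ← Polynomial.coe_aeval_eq_eval]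
  constructor
  · intro h
    exact (map_eq_zero_iff _ (algebraMap F (AlgebraicClosure F)).injective).1 h
  · intro h
    rw [h, map_zero]

omit [Fintype F] in
open Classical in
theorem count_inv {Q : QuadraticForm F V} (hQ : Nondeg Q) {g : V ≃ₗ[F] V} (hg : g ∈ O Q)
    (x : AlgebraicClosure F) : (rts (g : V →ₗ[F] V)).count x⁻¹ = (rts (g : V →ₗ[F] V)).count x := by
  let φ := algebraMap F (AlgebraicClosure F)
  let b := finBasis F V
  set M := LinearMap.toMatrix b b (g : V →ₗ[F] V) with hM
  set G := LinearMap.BilinForm.toMatrix b (polarBilin Q) with hG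
  have h1 : Matrix.transpose M * G * M = G := by
    have h2 := LinearMap.BilinForm.toMatrix_comp b b (polarBilin Q) (g : V →ₗ[F] V) (g : V →ₗ[F] V)
    rw [← hM, ← hG] at h2
    rw [← h2, hG]
    congr 1
    ext x y
    exact polar_map hg x y
  have h2 : (M.map φ).charpoly = (g : V →ₗ[F] V).charpoly.map φ := by
    rw [Matrix.charpoly_map, hM, LinearMap.charpoly_toMatrix]
  have h3 := roots_inv (M := M.map φ) (G := G.map φ) (by
      have h4 : (G.map φ).det = φ G.det := by
        rw [RingHom.map_det]; rfl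
      rw [h4]
      exact (map_ne_zero φ).2 (gdet_ne hQ)) (by
      have h5 := congrArg (fun A : Matrix _ _ F => A.map φ) h1
      simp only [Matrix.map_mul] at h5
      exact h5) (by rw [h2]; exact splits _)
  rw [h2] at h3
  have h4 : rts (g : V →ₗ[F] V) = (rts (g : V →ₗ[F] V)).map (fun x => x⁻¹) := h3
  conv_lhs => rw [h4]
  exact Multiset.count_map_eq_count' _ _ inv_injective _

open Classical in
/-- **The roots of an isometry without eigenvalues `±1`.** -/
theorem inv_rts {Q : QuadraticForm F V} (hQ : Nondeg Q) {g : V ≃ₗ[F] V} (hg : g ∈ O Q)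
    (h1 : ∀ v, g v = v → v = 0) (h2 : ∀ v, g v = -v → v = 0) : Inv (Fintype.card F) (rts (g : V →ₗ[F] V)) where
  frob := count_frob _
  inv := count_inv hQ hg
  ne0 := by
    rintro x hx rfl
    rw [← map_zero (algebraMap F (AlgebraicClosure F)), mem_rts_iff] at hx
    obtain ⟨v, hv⟩ := hx.exists_hasEigenvector
    have h3 := hv.apply_eq_smul
    rw [zero_smul] at h3
    exact hv.2 (g.map_eq_zero_iff.1 h3)
  ne1 := by
    intro x hx h3
    have h0 : x ≠ 0 := by
      rintro rfl
      rw [← map_zero (algebraMap F (AlgebraicClosure F)), mem_rts_iff] at hx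
      obtain ⟨v, hv⟩ := hx.exists_hasEigenvector
      have h3 := hv.apply_eq_smul
      rw [zero_smul] at h3
      exact hv.2 (g.map_eq_zero_iff.1 h3)
    have h4 : x * x = 1 := by
      nth_rewrite 2 [h3]
      exact mul_inv_cancel₀ h0
    rcases mul_self_eq_one_iff.1 h4 with rfl | rfl
    · rw [← map_one (algebraMap F (AlgebraicClosure F)), mem_rts_iff] at hx
      obtain ⟨v, hv⟩ := hx.exists_hasEigenvector
      have h3 := hv.apply_eq_smul
      rw [one_smul] at h3
      exact hv.2 (h1 v h3)
    · rw [← map_one (algebraMap F (AlgebraicClosure F)), ← map_neg, mem_rts_iff] at hx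
      obtain ⟨v, hv⟩ := hx.exists_hasEigenvector
      have h3 := hv.apply_eq_smul
      rw [neg_one_smul] at h3
      exact hv.2 (h2 v h3)

omit [Fintype F] in
open Classical in
/-- **Exponent from the roots.** -/
theorem pow_eq_one_of_bd {p : ℕ} [hp : Fact p.Prime] [CharP F p] {g : V →ₗ[F] V} {N M c : ℕ}
    (h : Bd (rts g) M N) (hc : M ≤ p ^ c) : g ^ (N * p ^ c) = 1 := by
  have : CharP (AlgebraicClosure F) p := charP_of_injective_algebraMap (algebraMap F (AlgebraicClosure F)).injective p
  have h1 : g.charpoly ∣ X ^ (N * p ^ c) - 1 := by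
    rw [← Polynomial.map_dvd_map' (algebraMap F (AlgebraicClosure F)), eq_prod, Polynomial.map_sub,
      Polynomial.map_pow, Polynomial.map_X, Polynomial.map_one]
    have h2 : (X ^ (N * p ^ c) - 1 : (AlgebraicClosure F)[X]) = (X ^ N - 1) ^ (p ^ c) := by
      rw [sub_pow_char_pow, one_pow, ← pow_mul]
    rw [h2]
    by_cases hN : (X ^ N - 1 : (AlgebraicClosure F)[X]) = 0
    · rw [hN, zero_pow (pow_ne_zero _ hp.out.ne_zero)]
      exact dvd_zero _
    · rw [Multiset.prod_X_sub_C_dvd_iff_le_roots (pow_ne_zero _ hN), roots_pow, Multiset.le_iff_count]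
      intro x
      rw [Multiset.count_nsmul]
      by_cases hx : x ∈ rts g
      · have h3 : 1 ≤ (X ^ N - 1 : (AlgebraicClosure F)[X]).roots.count x := by
          rw [Multiset.one_le_count_iff_mem, mem_roots hN, IsRoot.def]
          simp [h.ex x hx]
        calc (rts g).count x ≤ M := h.cnt x
          _ ≤ p ^ c * 1 := by rw [mul_one]; exact hc
          _ ≤ _ := Nat.mul_le_mul_left _ h3
      · rw [Multiset.count_eq_zero_of_notMem hx]
        exact Nat.zero_le _
  obtain ⟨w, hw⟩ := h1
  have h2 := congrArg (aeval g) hw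
  rw [map_mul, LinearMap.aeval_self_charpoly, zero_mul, map_sub, map_pow, aeval_X, map_one, sub_eq_zero] at h2
  exact h2

omit [Fintype F] in
/-- no root is an `n`-th root of unity: `g ^ n` has no fixed vector -/
theorem no_fixed {g : V →ₗ[F] V} {n : ℕ} (h : ∀ x ∈ rts g, x ^ n ≠ 1) {v : V} (hv : (g ^ n) v = v) : v = 0 := by
  have h1 : IsCoprime (X ^ n - 1 : F[X]) g.charpoly := by
    refine (Polynomial.isCoprime_iff_aeval_ne_zero_of_isAlgClosed (k := F) (K := AlgebraicClosure F) _ _).2 fun a => ?_
    by_cases ha : a ∈ rts g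
    · left
      rw [map_sub, map_pow, aeval_X, map_one]
      exact sub_ne_zero.2 (h a ha)
    · right
      intro h2
      apply ha
      rw [rts, mem_roots (map_ne g), IsRoot.def, Polynomial.eval_map_algebraMap]
      exact h2
  obtain ⟨u, w, huw⟩ := h1
  have h2 := congrArg (fun f => aeval g f v) huw
  simp only [map_add, map_mul, map_sub, map_pow, aeval_X, map_one, LinearMap.aeval_self_charpoly, mul_zero,
    add_zero, Module.End.mul_apply, LinearMap.sub_apply, Module.End.one_apply, hv, sub_self, map_zero] at h2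
  exact h2.symm

omit [Fintype F] in
theorem phi_rts (g : V →ₗ[F] V) :
    phi (rts g) = algebraMap F (AlgebraicClosure F) (g.charpoly.eval 1 * g.charpoly.eval (-1)) := by
  have h1 : ∀ a : F, algebraMap F (AlgebraicClosure F) (g.charpoly.eval a) =
      ((rts g).map (fun x => algebraMap F (AlgebraicClosure F) a - x)).prod := by
    intro a
    rw [← Polynomial.coe_aeval_eq_eval, ← Polynomial.aeval_algebraMap_apply, ← Polynomial.eval_map_algebraMap,
      eq_prod, Polynomial.eval_multiset_prod, Multiset.map_map]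
    congr 2
    ext x
    simp
  rw [map_mul, h1, h1, phi, ← Multiset.prod_map_mul, map_neg, map_one]

end Cfsg.Agent.H160.QChar
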