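import Mathlib
set_option linter.all false

/-!
# Element orders of `PSL(2, q)`, `q` odd

* `orderOf_dvd` : the order of an element of `PSL(2, q)`, `q` odd of characteristic `p`, divides `p`,
  `(q - 1) / 2` or `(q + 1) / 2`;
* `exists_orderOf` : there is an element of order `(q - 1) / 2`.
-/

set_option autoImplicit false

namespace Cfsg.Agent.H160.PSLTwo

open Matrix Polynomial

/-- Two by two matrices. -/
abbrev M2 (F : Type*) := Matrix (Fin 2) (Fin 2) F

theorem sq_one {K : Type*} [Field K] {x : K} (h : x ^ 2 = 1) : x = 1 ∨ x = -1 := by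
  have : (x - 1) * (x + 1) = 0 := by linear_combination h
  rcases mul_eq_zero.1 this with h | h
  · left; linear_combination h
  · right; linear_combination h

theorem cayley {F : Type*} [Field F] {A : M2 F} (hA : A.det = 1) : A * A = A.trace • A - 1 := by
  rw [Matrix.det_fin_two] at hA
  ext i j
  fin_cases i <;> fin_cases j <;>
    simp [Matrix.mul_apply, Fin.sum_univ_two, Matrix.trace_fin_two] <;>
    first | linear_combination -hA | ring1

section Fin

variable {F : Type*} [Field F] [Fintype F]

theorem mem_range_of_pow_card {L : Type*} [Field L] [Algebra F L] {x : L}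
    (hx : x ^ Fintype.card F = x) : ∃ c : F, algebraMap F L c = x := by
  have hq : 1 < Fintype.card F := Fintype.one_lt_card
  have hdeg := FiniteField.X_pow_card_sub_X_natDegree_eq F hq
  have hmon : (X ^ Fintype.card F - X : F[X]).Monic :=
    Polynomial.monic_X_pow_sub (by simpa using hq)
  have hroots := FiniteField.roots_X_pow_card_sub_X F
  have h := Polynomial.prod_multiset_X_sub_C_of_monic_of_roots_card_eq hmon
    (by rw [hdeg, hroots]; rfl)
  rw [hroots] at h
  have h2 := congrArg (Polynomial.aeval x) h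
  rw [map_sub, map_pow, Polynomial.aeval_X, hx, sub_self, map_multiset_prod, Multiset.map_map] at h2
  rw [Multiset.prod_eq_zero_iff, Multiset.mem_map] at h2
  obtain ⟨c, -, hc⟩ := h2
  refine ⟨c, ?_⟩
  simp only [Function.comp_apply, map_sub, Polynomial.aeval_X, Polynomial.aeval_C] at hc
  exact (sub_eq_zero.1 hc).symm

/-- The characteristic polynomial. -/
noncomputable def cp (t : F) : F[X] := X ^ 2 - C t * X + 1

omit [Fintype F] in
theorem aeval_cp {A : M2 F} (hA : A.det = 1) : Polynomial.aeval A (cp A.trace) = 0 := by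
  simp only [cp, map_add, map_sub, map_mul, map_pow, Polynomial.aeval_X, Polynomial.aeval_C, map_one]
  rw [sq, cayley hA, Algebra.algebraMap_eq_smul_one, Matrix.smul_mul, Matrix.one_mul]
  abel

omit [Fintype F] in
theorem eq_of_cp_dvd {A : M2 F} (hA : A.det = 1) {f : F[X]} (h : cp A.trace ∣ f) :
    Polynomial.aeval A f = 0 := by
  obtain ⟨g, rfl⟩ := h
  rw [map_mul, aeval_cp hA, zero_mul]

/-- If the characteristic polynomial has a root and `t² ≠ 4`, then `A ^ ((q - 1) / 2) = ±1`. -/
theorem pow_of_root {A : M2 F} (hA : A.det = 1) (ht : A.trace ^ 2 ≠ 4) {l : F}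
    (hl : l ^ 2 - A.trace * l + 1 = 0) {m : ℕ} (hm : 2 * m = Fintype.card F - 1) :
    A ^ m = 1 ∨ A ^ m = -1 := by
  set t := A.trace with htdef
  have hl0 : l ≠ 0 := by
    rintro rfl
    simp at hl
  have hlm : l * (t - l) = 1 := by linear_combination -hl
  have hne : l ≠ t - l := by
    intro h
    apply ht
    have : t = 2 * l := by linear_combination -h
    rw [this] at hl ⊢
    linear_combination -4 * hl
  have hlp : (l ^ m) ^ 2 = 1 := by
    rw [← pow_mul, mul_comm, hm]
    exact FiniteField.pow_card_sub_one_eq_one l hl0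
  obtain ⟨s, hs, hls⟩ : ∃ s : F, (s = 1 ∨ s = -1) ∧ l ^ m = s := ⟨_, sq_one hlp, rfl⟩
  have hss : s * s = 1 := by rcases hs with rfl | rfl <;> simp
  have hms : (t - l) ^ m = s := by
    have h1 : l ^ m * (t - l) ^ m = 1 := by rw [← mul_pow, hlm, one_pow]
    rw [hls] at h1
    calc (t - l) ^ m = (s * s) * (t - l) ^ m := by rw [hss, one_mul]
      _ = s * (s * (t - l) ^ m) := by ring
      _ = s := by rw [h1, mul_one]
  have hdvd : cp t ∣ X ^ m - C s := by
    have hcp : cp t = (X - C l) * (X - C (t - l)) := by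
      have h1 : C (l * (t - l)) = (1 : F[X]) := by
        rw [← C_1]
        congr 1
      rw [C_mul, C_sub] at h1
      rw [cp, C_sub]
      linear_combination -h1
    rw [hcp]
    apply IsCoprime.mul_dvd
    · exact Polynomial.isCoprime_X_sub_C_of_isUnit_sub (by
        rw [isUnit_iff_ne_zero]
        exact sub_ne_zero.2 hne)
    · rw [Polynomial.dvd_iff_isRoot]
      simp [hls]
    · rw [Polynomial.dvd_iff_isRoot]
      simp [hms]
  have := eq_of_cp_dvd hA hdvd
  rw [map_sub, map_pow, Polynomial.aeval_X, Polynomial.aeval_C, sub_eq_zero] at this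
  rcases hs with rfl | rfl
  · left
    rw [this, map_one]
  · right
    rw [this, map_neg, map_one]

/-- If the characteristic polynomial has no root then `A ^ ((q + 1) / 2) = ±1`. -/
theorem pow_of_not_root {A : M2 F} (hA : A.det = 1)
    (hl : ∀ l : F, l ^ 2 - A.trace * l + 1 ≠ 0) {m : ℕ} (hm : 2 * m = Fintype.card F + 1) :
    A ^ m = 1 ∨ A ^ m = -1 := by
  set t := A.trace with htdef
  have hdeg : (cp t).natDegree = 2 := by
    rw [cp]
    compute_degree!
  have hirr : Irreducible (cp t) := by
    apply Polynomial.irreducible_of_degree_le_three_of_not_isRoot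
    · rw [hdeg]; decide
    · intro x hx
      apply hl x
      rw [Polynomial.IsRoot.def] at hx
      simpa [cp] using hx
  have : Fact (Irreducible (cp t)) := ⟨hirr⟩
  set K := AdjoinRoot (cp t) with hK
  set r : K := AdjoinRoot.root (cp t) with hr
  have hroot : ∀ f : F[X], Polynomial.aeval r f = 0 → cp t ∣ f := by
    intro f hf
    rw [hr, AdjoinRoot.aeval_eq] at hf
    exact AdjoinRoot.mk_eq_zero.1 hf
  have hr0 : r ^ 2 - algebraMap F K t * r + 1 = 0 := by
    have : Polynomial.aeval r (cp t) = 0 := by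
      rw [hr, AdjoinRoot.aeval_eq]
      exact AdjoinRoot.mk_self
    simpa [cp] using this
  have hs0 : (r ^ Fintype.card F) ^ 2 - algebraMap F K t * r ^ Fintype.card F + 1 = 0 := by
    have := congrArg (FiniteField.frobeniusAlgHom F K) hr0
    simp only [map_add, map_sub, map_mul, map_pow, map_one, map_zero, AlgHom.commutes] at this
    simpa [FiniteField.coe_frobeniusAlgHom] using this
  have hprod : (r ^ Fintype.card F - r) * (r ^ Fintype.card F + r - algebraMap F K t) = 0 := by
    linear_combination hs0 - hr0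
  have hone : r ^ (Fintype.card F + 1) = 1 := by
    rcases mul_eq_zero.1 hprod with h | h
    · exfalso
      obtain ⟨c, hc⟩ := mem_range_of_pow_card (F := F) (L := K) (sub_eq_zero.1 h)
      apply hl c
      rw [← hc] at hr0
      apply (algebraMap F K).injective
      rw [map_zero, ← hr0]
      simp
    · have h1 : r ^ Fintype.card F = algebraMap F K t - r := by linear_combination h
      rw [pow_succ, h1]
      linear_combination -hr0
  have hm2 : (r ^ m) ^ 2 = 1 := by
    rw [← pow_mul, mul_comm, hm, hone]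
  rcases sq_one hm2 with h | h
  · left
    have := eq_of_cp_dvd hA (hroot (X ^ m - 1) (by simp [h]))
    rw [map_sub, map_pow, Polynomial.aeval_X, map_one, sub_eq_zero] at this
    exact this
  · right
    have := eq_of_cp_dvd hA (hroot (X ^ m + 1) (by simp [h]))
    rw [map_add, map_pow, Polynomial.aeval_X, map_one] at this
    exact eq_neg_of_add_eq_zero_left this

omit [Fintype F] in
/-- If `t = ±2` then `A ^ p = ±1`. -/
theorem pow_of_sq_eq_four (p : ℕ) [hp : Fact p.Prime] [CharP F p] {A : M2 F} (hA : A.det = 1)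
    (ht : A.trace ^ 2 = 4) : A ^ p = 1 ∨ A ^ p = -1 := by
  obtain ⟨s, hs, hts⟩ : ∃ s : F, (s = 1 ∨ s = -1) ∧ A.trace = 2 * s := by
    have h4 : (A.trace - 2) * (A.trace + 2) = 0 := by linear_combination ht
    rcases mul_eq_zero.1 h4 with h | h
    · exact ⟨1, Or.inl rfl, by linear_combination h⟩
    · exact ⟨-1, Or.inr rfl, by linear_combination h⟩
  have hss : s * s = 1 := by rcases hs with rfl | rfl <;> simp
  have h2 : cp A.trace = (X - C s) ^ 2 := by
    rw [cp, hts, C_mul]
    have : (C s * C s : F[X]) = 1 := by rw [← C_mul, hss, C_1]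
    have h2' : (C 2 : F[X]) = 2 := rfl
    rw [h2']
    linear_combination -this
  have hdvd : cp A.trace ∣ X ^ p - C (s ^ p) := by
    rw [C_pow, ← sub_pow_char, h2]
    exact pow_dvd_pow _ hp.out.two_le
  have h3 := eq_of_cp_dvd hA hdvd
  rw [map_sub, map_pow, Polynomial.aeval_X, Polynomial.aeval_C, sub_eq_zero] at h3
  rcases hs with rfl | rfl
  · left
    rw [h3, one_pow, map_one]
  · right
    rw [h3, neg_one_pow_char, map_neg, map_one]

end Fin

section PSL

variable {F : Type*} [Field F]

theorem mk_pow_eq_one_iff (A : SpecialLinearGroup (Fin 2) F) (n : ℕ) :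
    (QuotientGroup.mk A : ProjectiveSpecialLinearGroup (Fin 2) F) ^ n = 1 ↔
      ((A : M2 F) ^ n = 1 ∨ (A : M2 F) ^ n = -1) := by
  rw [← QuotientGroup.mk_pow, QuotientGroup.eq_one_iff, Matrix.SpecialLinearGroup.mem_center_iff]
  have hc : ((A ^ n : SpecialLinearGroup (Fin 2) F) : M2 F) = (A : M2 F) ^ n :=
    Matrix.SpecialLinearGroup.coe_pow _ _
  rw [hc]
  constructor
  · rintro ⟨r, hr, h⟩
    rcases sq_one (hr : r ^ 2 = 1) with rfl | rfl
    · left
      rw [← h, map_one]
    · right
      rw [← h, map_neg, map_one]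
  · rintro (h | h)
    · exact ⟨1, by simp, by rw [h, map_one]⟩
    · exact ⟨-1, by simp, by rw [h, map_neg, map_one]⟩

/-- The order of an element of `PSL(2, q)`, `q` odd, divides `p`, `(q - 1) / 2` or `(q + 1) / 2`. -/
theorem orderOf_dvd [Fintype F] (p : ℕ) [hp : Fact p.Prime] [CharP F p]
    (hodd : Odd (Fintype.card F)) (x : ProjectiveSpecialLinearGroup (Fin 2) F) :
    orderOf x ∣ p ∨ orderOf x ∣ (Fintype.card F - 1) / 2 ∨ orderOf x ∣ (Fintype.card F + 1) / 2 := by
  obtain ⟨k, hk⟩ := hodd
  induction x using QuotientGroup.induction_on with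
  | H A =>
    have hdet : (A : M2 F).det = 1 := A.2
    by_cases ht : (A : M2 F).trace ^ 2 = 4
    · left
      exact orderOf_dvd_of_pow_eq_one ((mk_pow_eq_one_iff A p).2 (pow_of_sq_eq_four p hdet ht))
    · by_cases hroot : ∃ l : F, l ^ 2 - (A : M2 F).trace * l + 1 = 0
      · obtain ⟨l, hl⟩ := hroot
        right; left
        exact orderOf_dvd_of_pow_eq_one ((mk_pow_eq_one_iff A _).2
          (pow_of_root hdet ht hl (by omega)))
      · push Not at hroot
        right; right
        exact orderOf_dvd_of_pow_eq_one ((mk_pow_eq_one_iff A _).2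
          (pow_of_not_root hdet hroot (by omega)))

/-- There is an element of order `(q - 1) / 2` in `PSL(2, q)`, `q` odd. -/
theorem exists_orderOf [Fintype F] (hodd : Odd (Fintype.card F)) :
    ∃ x : ProjectiveSpecialLinearGroup (Fin 2) F, orderOf x = (Fintype.card F - 1) / 2 := by
  classical
  obtain ⟨k, hk⟩ := hodd
  have hq : 1 < Fintype.card F := Fintype.one_lt_card
  obtain ⟨l, hl⟩ := IsCyclic.exists_ofOrder_eq_natCard (α := Fˣ)
  rw [Nat.card_units, Nat.card_eq_fintype_card] at hl
  set D : SpecialLinearGroup (Fin 2) F := ⟨!![(l : F), 0; 0, ((l⁻¹ : Fˣ) : F)], by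
    simp [Matrix.det_fin_two]⟩ with hD
  have hDp : ∀ n : ℕ, (D : M2 F) ^ n = !![((l ^ n : Fˣ) : F), 0; 0, (((l⁻¹) ^ n : Fˣ) : F)] := by
    intro n
    induction n with
    | zero =>
      ext i j
      fin_cases i <;> fin_cases j <;> simp
    | succ n ih =>
      rw [pow_succ, ih]
      change _ * !![(l : F), 0; 0, ((l⁻¹ : Fˣ) : F)] = _
      ext i j
      fin_cases i <;> fin_cases j <;> simp [pow_succ]
  refine ⟨QuotientGroup.mk D, Nat.dvd_antisymm ?_ ?_⟩
  · apply orderOf_dvd_of_pow_eq_one
    rw [mk_pow_eq_one_iff, hDp]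
    have h2 : (((l ^ ((Fintype.card F - 1) / 2) : Fˣ) : F)) ^ 2 = 1 := by
      rw [← Units.val_pow_eq_pow_val, ← pow_mul, show (Fintype.card F - 1) / 2 * 2 =
        Fintype.card F - 1 by omega, ← hl, pow_orderOf_eq_one, Units.val_one]
    rcases sq_one h2 with h | h
    · left
      have h' : l ^ ((Fintype.card F - 1) / 2) = 1 := Units.ext h
      ext i j
      fin_cases i <;> fin_cases j <;> simp [h']
    · right
      have h' : l ^ ((Fintype.card F - 1) / 2) = -1 := Units.ext h
      ext i j
      fin_cases i <;> fin_cases j <;> simp [h']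
  · set n := orderOf (QuotientGroup.mk D : ProjectiveSpecialLinearGroup (Fin 2) F) with hn
    have h1 := (mk_pow_eq_one_iff D n).1 (pow_orderOf_eq_one _)
    rw [hDp] at h1
    have h3 : ((l ^ n : Fˣ) : F) = 1 ∨ ((l ^ n : Fˣ) : F) = -1 := by
      rcases h1 with h | h
      · left; simpa using congrFun (congrFun h 0) 0
      · right; simpa using congrFun (congrFun h 0) 0
    have h4 : l ^ (n * 2) = 1 := by
      rw [pow_mul]
      ext
      rw [Units.val_pow_eq_pow_val]
      rcases h3 with h | h <;> rw [h] <;> simp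
    have h5 := orderOf_dvd_of_pow_eq_one h4
    rw [hl, show Fintype.card F - 1 = (Fintype.card F - 1) / 2 * 2 by omega] at h5
    exact Nat.dvd_of_mul_dvd_mul_right (by norm_num) h5

end PSL

end Cfsg.Agent.H160.PSLTwo
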